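import Mathlib
import Cfsg.Agent.H298.UThree.InSimple
import Cfsg.Agent.H337.Bend.Types
/-!
# S3145, piece RkU: the balanced case (helper207)

The sections of `OddHalf/D4/Final/Main` (`StartUni`), copied to avoid its closure.
-/

set_option autoImplicit false
set_option linter.unusedSectionVars false

namespace Cfsg.Agent.H207.RkU

open Subgroup Cfsg Cfsg.Agent.LieRecognition Cfsg.Agent.LieRecognition.HermHeis Cfsg.Agent.StdU3.URel
  Cfsg.Agent.StdU3.Field Cfsg.Agent.StdU3.Semi Cfsg.Agent.OddHalf.D4 Cfsg.Agent.OddHalf.D4.Basic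
  Cfsg.Agent.OddHalf.D4.U3.ParDefs
open Cfsg.Agent.OddHalf.D4.CommConj (Tight cj mem_cj cj_mul card_cj cj_eq_of_mem_normalizer
  mem_normalizer_of_cj_eq mem_cj_mul)

universe u

/-- `O(C(K)) = 1` -/
theorem core_eq_bot {G : Type u} [Group G] [Finite G] {K : Subgroup G} (ht : TightAt K)
    (hbal : ∀ t : G, orderOf t = 2 → centralizerPPrimeCore 2 t = ⊥) {a b : G}
    (ha : a ∈ centralizer (K : Set G)) (hb : b ∈ centralizer (K : Set G)) (ha2 : orderOf a = 2)
    (hb2 : orderOf b = 2) (hab : a * b = b * a) (hne : a ≠ b) (N : Subgroup G)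
    (hN : N ≤ centralizer (K : Set G)) (hn : ∀ x ∈ centralizer (K : Set G), ∀ o ∈ N, x * o * x⁻¹ ∈ N)
    (hodd : Odd (Nat.card N)) : N = ⊥ := by
  set C := centralizer (K : Set G) with hC
  let O : Subgroup G := (pPrimeCore 2 ↥C).map C.subtype
  have hOodd : Odd (Nat.card ↥O) := by
    have h1 : Nat.card ↥O = Nat.card ↥(pPrimeCore 2 ↥C) :=
      (Nat.card_congr ((pPrimeCore 2 ↥C).equivMapOfInjective _ C.subtype_injective).toEquiv).symm
    rw [h1]
    exact Nat.coprime_two_right.mp (Cfsg.Agent.Lib.Cores.pPrimeCore_coprime 2)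
  have hOM : ∀ m ∈ normalizer (K : Set G), ∀ o ∈ O, m * o * m⁻¹ ∈ O := by
    intro m hm o ho
    have hnorm : ∀ m ∈ normalizer (K : Set G), ∀ c ∈ C, m * c * m⁻¹ ∈ C := ht.norm
    let e : ↥C ≃* ↥C :=
      { toFun := fun c => ⟨m * c * m⁻¹, hnorm m hm c c.2⟩
        invFun := fun c => ⟨m⁻¹ * c * m, by
          have := hnorm m⁻¹ (inv_mem hm) c c.2
          rwa [inv_inv] at this⟩
        left_inv := fun c => Subtype.ext (by show m⁻¹ * (m * (c : G) * m⁻¹) * m = c; group)
        right_inv := fun c => Subtype.ext (by show m * (m⁻¹ * (c : G) * m) * m⁻¹ = c; group)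
        map_mul' := fun c d => Subtype.ext (by
          show m * ((c : G) * d) * m⁻¹ = m * c * m⁻¹ * (m * d * m⁻¹)
          group) }
    obtain ⟨c, hc, rfl⟩ := ho
    have h1 : e c ∈ pPrimeCore 2 ↥C := by
      rw [← Cfsg.Agent.Lib.Cores.map_equiv_pPrimeCore e 2]
      exact ⟨c, hc, rfl⟩
    exact ⟨e c, h1, rfl⟩
  have hO : O = ⊥ := EvenPair.eq_bot_of_odd ht hbal hOM hOodd ha ha2 hb hb2 hab hne
  have hNn : (N.subgroupOf C).Normal := by
    refine ⟨?_⟩
    intro n hn' g
    rw [mem_subgroupOf] at hn' ⊢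
    exact hn g g.2 n hn'
  have hcard : Nat.card ↥(N.subgroupOf C) = Nat.card ↥N := Nat.card_congr (subgroupOfEquivOfLe hN).toEquiv
  have h1 := Cfsg.Agent.Lib.Cores.le_pPrimeCore (p := 2) hNn (by
    rw [hcard]; exact Nat.coprime_two_right.mpr hodd)
  rw [eq_bot_iff_forall]
  intro x hx
  have h2 : x ∈ O := ⟨⟨x, hN hx⟩, h1 (mem_subgroupOf.mpr hx), rfl⟩
  rw [hO, mem_bot] at h2
  exact h2

/-- **the balanced case** -/
theorem false_of_bal {G : Type u} [Group G] [Finite G] [IsSimpleGroup G] {K : Subgroup G}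
    (hK : IsStandardSubgroup K) (hU : Cfsg.Agent.H337.Bend.TU ↥K) (hrk : ¬ PRankLE 2 1 ↥(centralizer (K : Set G)))
    (hbal : ∀ t : G, orderOf t = 2 → centralizerPPrimeCore 2 t = ⊥) : False := by
  obtain ⟨⟨F, _, _, n, hn, hF, ⟨e⟩⟩, h3⟩ := hU
  have ht : TightAt K := EvenPair.tight_of_standard hK
  obtain ⟨a, b, ha, hb, ha2, hb2, hab, hne⟩ := EvenPair.exists_two_of_not_pRankLE hrk
  have core : ∀ N : Subgroup G, N ≤ centralizer (K : Set G) →
      (∀ x ∈ centralizer (K : Set G), ∀ o ∈ N, x * o * x⁻¹ ∈ N) → Odd (Nat.card N) → N = ⊥ :=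
    fun N hN hn hodd => core_eq_bot ht hbal ha hb ha2 hb2 hab hne N hN hn hodd
  have hz : center ↥K = ⊥ := by
    have h1 : (center ↥K).map K.subtype ≤ centralizer (K : Set G) := by
      rintro _ ⟨z, hz, rfl⟩
      rw [mem_centralizer_iff]
      intro k hk
      exact congrArg Subtype.val (mem_center_iff.1 hz ⟨k, hk⟩)
    have h2 := core ((center ↥K).map K.subtype) h1 (fun x hx o ho => by
      have h4 : x * o = o * x := by
        obtain ⟨z, -, rfl⟩ := ho
        exact (mem_centralizer_iff.1 hx z z.2).symm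
      rw [h4, mul_inv_cancel_right]
      exact ho) (by
      rw [Nat.card_congr ((center ↥K).equivMapOfInjective _ K.subtype_injective).symm.toEquiv]
      exact Odd.of_dvd_nat (by decide : Odd 3) h3)
    rwa [map_eq_bot_iff_of_injective _ K.subtype_injective] at h2
  have hf2 : Fact (Nat.Prime 2) := ⟨Nat.prime_two⟩
  have hcard : Fintype.card F = 2 ^ (2 * n) := by rw [hF, ← pow_mul, mul_comm]
  have hchar : CharP F 2 := charP_of_card_eq_prime_pow hcard
  let σ : F →+* F := iterateFrobenius F 2 n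
  have hσ : ∀ x, σ x = x ^ 2 ^ n := fun x => iterateFrobenius_def 2 n x
  have hσσ : Fact (∀ x, σ (σ x) = x) := ⟨by
    intro x
    rw [hσ, hσ, ← pow_mul, ← sq, ← hF, FiniteField.pow_card]⟩
  have hS : Sg σ n := ⟨⟨hn, hF⟩, fun x => by rw [hσ]; rfl⟩
  obtain ⟨R0⟩ := Cfsg.Agent.StdU3.URelModel.nonempty_urel (σ := σ) (n := n) (by omega) hσ
    (by rw [Nat.card_eq_fintype_card, hF])
  -- `K` is simple
  let e' : ↥K ≃* ↥K ⧸ center ↥K :=
    (QuotientGroup.quotientBot (G := ↥K)).symm.trans (QuotientGroup.quotientMulEquivOfEq hz.symm)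
  have hs : IsSimpleGroup ↥K := by
    have := hK.1.2
    exact e'.isSimpleGroup
  have hcen : ∀ x ∈ K, x ∈ centralizer (K : Set G) → x = 1 := by
    intro x hx hxc
    have h1 : (⟨x, hx⟩ : ↥K) ∈ center ↥K := by
      rw [Subgroup.mem_center_iff]
      intro y
      exact Subtype.ext (mem_centralizer_iff.mp hxc y y.2)
    rw [hz, mem_bot] at h1
    exact congrArg Subtype.val h1
  have hKne : K ≠ ⊥ := by
    intro h
    have h1 := hs.toNontrivial
    rw [nontrivial_iff_ne_bot] at h1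
    exact h1 h
  have hstd : ∀ g : G, ¬ cj g K ≤ centralizer (K : Set G) := by
    intro g hg
    by_cases h : cj g K = K
    · apply hKne
      rw [eq_bot_iff]
      intro x hx
      rw [mem_bot]
      apply hcen x hx
      rw [← h] at hx
      exact hg hx
    · apply hK.2.2.1 g h
      rw [commutator_comm, commutator_eq_bot_iff_le_centralizer]
      exact hg
  exact Cfsg.Agent.H298.UThree.Rank2.uni_false (K := K) (σ := σ) (n := n)
    { p := ⟨hS, R0.map (e'.trans e).symm⟩
      sim := hs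
      tight := ht
      std := hstd
      cen := hcen
      core := core
      four := ⟨a, ha, b, hb, ha2, hb2, hne, hab⟩ }

end Cfsg.Agent.H207.RkU
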