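import Mathlib
import Cfsg.Agent.H207.OddU.Number
import Cfsg.Agent.S0243
/-!
# `PSU₃(2^n)`: not alternating, not in `L₃(4)`, `He` (helper207, for S3145)
-/

set_option autoImplicit false
set_option linter.unusedSectionVars false

namespace Cfsg.Agent.H207.RkU

open Subgroup Equiv

/-- the order of `PSU₃(2^n)` -/
theorem card_dvd {F : Type*} [Field F] [Finite F] {n : ℕ} (hn : 1 ≤ n) (hF : Nat.card F = (2 ^ n) ^ 2) :
    2 ^ (n * 3) * (2 ^ (n * 3) + 1) ∣ Nat.card (Cfsg.PSU 3 F (2 ^ n)) := by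
  obtain ⟨hch, σ, hσ, hs, -⟩ := Cfsg.Agent.LieRecognition.PSUThreeSylow.exists_heis_equiv F hn hF
  obtain ⟨H, S, w, ψ, hfaith, hS, -⟩ := Cfsg.Agent.AschCrit.PSUTorus.exists_model (F := F) (σ := σ) hn hs hF
  have : Finite (Cfsg.PSU 3 F (2 ^ n)) := Quotient.finite _
  have hq : 1 < 2 ^ n := Nat.one_lt_two_pow (by omega)
  have hcardS : Nat.card S = 2 ^ (n * 3) := by
    rw [← Nat.card_congr ψ.toEquiv, Cfsg.Agent.LieRecognition.HermHeis.card_heis hq hs hF, ← pow_mul]
  obtain ⟨-, -, h, -, -⟩ := Cfsg.Agent.S1119.result hS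
  rw [h, hcardS]
  generalize Nat.card ↥(MulAction.stabilizer (Cfsg.PSU 3 F (2 ^ n))
    (QuotientGroup.mk 1 : Cfsg.PSU 3 F (2 ^ n) ⧸ H) ⊓ _) = D
  exact ⟨D, by rw [mul_assoc, mul_comm D, ← mul_assoc]⟩

/-- involutions `x`, `y` with `(x y)⁴ = 1` commute in `PSU₃(2^n)` -/
theorem comm_of_four {F : Type*} [Field F] [Finite F] {n : ℕ} (hn : 1 ≤ n) (hF : Nat.card F = (2 ^ n) ^ 2)
    {x y : Cfsg.PSU 3 F (2 ^ n)} (hx : x * x = 1) (hy : y * y = 1) (hxy : (x * y) ^ 4 = 1) : x * y = y * x := by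
  have : Fact (Nat.Prime 2) := ⟨Nat.prime_two⟩
  have : Finite (Cfsg.PSU 3 F (2 ^ n)) := Quotient.finite _
  obtain ⟨hch, σ, hσ, hs, -, h3⟩ := Cfsg.Agent.LieRecognition.PSUThreeSylow.exists_heis_equiv F hn hF
  -- the group generated by `x y` and `x`
  have hxi : x⁻¹ = x := inv_eq_of_mul_eq_one_left hx
  have hyi : y⁻¹ = y := inv_eq_of_mul_eq_one_left hy
  have hinv : ∀ k : ℤ, x * (x * y) ^ k * x = (x * y) ^ (-k) := by
    intro k
    have h1 : x * (x * y) * x⁻¹ = (x * y)⁻¹ := by rw [mul_inv_rev, hxi, hyi, ← mul_assoc, hx, one_mul]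
    have h2 : x * (x * y) ^ k * x⁻¹ = ((x * y)⁻¹) ^ k := by
      rw [← h1, ← MulAut.conj_apply, map_zpow, MulAut.conj_apply]
    rw [hxi] at h2
    rw [h2, inv_zpow, zpow_neg]
  have hz : IsPGroup 2 (zpowers (x * y)) := by
    rintro ⟨z, hz⟩
    obtain ⟨k, rfl⟩ := mem_zpowers_iff.1 hz
    refine ⟨2, Subtype.ext ?_⟩
    change ((x * y) ^ k) ^ 2 ^ 2 = 1
    have : (x * y) ^ (4 : ℤ) = 1 := by exact_mod_cast hxy
    calc ((x * y) ^ k) ^ 2 ^ 2 = ((x * y) ^ (4 : ℤ)) ^ k := by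
          rw [← zpow_natCast, ← zpow_mul, ← zpow_mul]; congr 1; push_cast; ring
      _ = 1 := by rw [this, one_zpow]
  have hx2 : IsPGroup 2 (zpowers x) := by
    rintro ⟨z, hz⟩
    obtain ⟨k, rfl⟩ := mem_zpowers_iff.1 hz
    refine ⟨1, Subtype.ext ?_⟩
    change (x ^ k) ^ 2 ^ 1 = 1
    rw [pow_one, ← zpow_natCast, zpow_comm, zpow_natCast, pow_two, hx, one_zpow]
  have hnorm : zpowers x ≤ normalizer (zpowers (x * y) : Set (Cfsg.PSU 3 F (2 ^ n))) := by
    rw [zpowers_le, mem_normalizer_iff]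
    intro z
    constructor
    · intro hz
      obtain ⟨k, rfl⟩ := mem_zpowers_iff.1 hz
      rw [hxi, hinv]
      exact zpow_mem (mem_zpowers _) _
    · intro hz
      obtain ⟨k, hk⟩ := mem_zpowers_iff.1 hz
      have h1 : z = (x * y) ^ (-k) := by
        rw [← hinv, hk, hxi]
        calc z = (x * x) * z * (x * x) := by rw [hx]; group
          _ = _ := by group
      rw [h1]
      exact zpow_mem (mem_zpowers _) _
  have hD : IsPGroup 2 ↥(zpowers (x * y) ⊔ zpowers x) := hz.to_sup_of_normal_left' hx2 hnorm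
  obtain ⟨S, hS⟩ := hD.exists_le_sylow
  obtain ⟨e⟩ := h3 S
  have hxS : x ∈ S := hS (mem_sup_right (mem_zpowers x))
  have hxyS : x * y ∈ S := hS (mem_sup_left (mem_zpowers _))
  obtain ⟨a, ha⟩ := e.surjective ⟨x, hxS⟩
  obtain ⟨b, hb⟩ := e.surjective ⟨x * y, hxyS⟩
  have ha2 : a * a = 1 := by
    apply e.injective
    rw [map_mul, ha, map_one]
    exact Subtype.ext hx
  have hab : a * b = b * a := by
    rw [Cfsg.Agent.LieRecognition.HermHeis.commute_iff,
      (Cfsg.Agent.LieRecognition.HermHeis.mul_self_eq_one_iff a).mp ha2]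
    simp
  have h4 := congrArg (fun z => ((e z : ↥S) : Cfsg.PSU 3 F (2 ^ n))) hab
  simp only [map_mul, ha, hb] at h4
  have h5 : x * (x * y) = x * y * x := h4
  rw [← mul_assoc, hx, one_mul] at h5
  -- `y = x y x`
  calc x * y = x * (x * y * x) := by rw [← h5]
    _ = (x * x) * y * x := by group
    _ = y * x := by rw [hx, one_mul]

/-- `A_m` is a subgroup of `A_n` for `m ≤ n` -/
theorem exists_inj {m n : ℕ} (h : m ≤ n) :
    ∃ f : alternatingGroup (Fin m) →* alternatingGroup (Fin n), Function.Injective f := by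
  let ι : Fin m ↪ Fin n := Fin.castLEEmb h
  let φ : Perm (Fin m) →* Perm (Fin n) := Perm.extendDomainHom (Equiv.ofInjective ι.1 ι.2)
  have hs : ∀ a : Perm (Fin m), Perm.sign (φ a) = Perm.sign a :=
    fun a => Perm.sign_extendDomain a (Equiv.ofInjective ι.1 ι.2)
  have hφ : Function.Injective φ := Perm.extendDomainHom_injective (Equiv.ofInjective ι.1 ι.2)
  refine ⟨(φ.comp (alternatingGroup (Fin m)).subtype).codRestrict _ ?_, ?_⟩
  · rintro ⟨a, ha⟩
    rw [Perm.mem_alternatingGroup] at ha ⊢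
    change Perm.sign (φ a) = 1
    rw [hs, ha]
  · intro a b hab
    have h1 := congrArg Subtype.val hab
    exact Subtype.ext (hφ h1)

/-- **alternating groups** -/
theorem not_alt {K : Type*} [Group K] [Finite K] {F : Type*} [Field F] [Finite F] {n : ℕ} (hn : 2 ≤ n)
    (hF : Nat.card F = (2 ^ n) ^ 2) (e : (K ⧸ center K) ≃* Cfsg.PSU 3 F (2 ^ n)) {m : ℕ} (hm : 5 ≤ m)
    (f : K ≃* ↥(alternatingGroup (Fin m))) : False := by
  have hcard := card_dvd (by omega : 1 ≤ n) hF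
  rw [← Nat.card_congr e.toEquiv] at hcard
  have h64 : 64 ∣ Nat.card K := by
    have h1 : Nat.card (K ⧸ center K) ∣ Nat.card K := card_quotient_dvd_card _
    have h2 : (64 : ℕ) ∣ 2 ^ (n * 3) := by
      have : (64 : ℕ) = 2 ^ 6 := by norm_num
      rw [this]; exact pow_dvd_pow 2 (by omega)
    exact ((h2.trans (Dvd.intro _ rfl)).trans hcard).trans h1
  have hc : center ↥(alternatingGroup (Fin m)) = ⊥ := by
    refine alternatingGroup.center_eq_bot ?_
    rw [Nat.card_fin]; omega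
  by_cases h6 : 6 ≤ m
  · obtain ⟨φ, hφ⟩ := exists_inj h6
    obtain ⟨x, y, hx2, hy2, h4, hne⟩ : ∃ x y : ↥(alternatingGroup (Fin 6)), x * x = 1 ∧
        y * y = 1 ∧ (x * y) ^ 4 = 1 ∧ (x * y) * (x * y) ≠ 1 := by
      refine ⟨⟨swap 0 2 * swap 4 5, ?_⟩, ⟨swap 0 1 * swap 2 3, ?_⟩, ?_⟩
      · rw [Perm.mem_alternatingGroup]; decide
      · rw [Perm.mem_alternatingGroup]; decide
      · decide +kernel
    let g : ↥(alternatingGroup (Fin 6)) →* Cfsg.PSU 3 F (2 ^ n) :=
      e.toMonoidHom.comp ((QuotientGroup.mk' (center K)).comp (f.symm.toMonoidHom.comp φ))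
    have hg : ∀ z, g z = 1 → z = 1 := by
      intro z hz
      have h1 : QuotientGroup.mk' (center K) (f.symm (φ z)) = 1 := e.injective (hz.trans (map_one e).symm)
      rw [QuotientGroup.mk'_apply, QuotientGroup.eq_one_iff, mem_center_iff] at h1
      have h2 : φ z ∈ center ↥(alternatingGroup (Fin m)) := by
        rw [mem_center_iff]
        intro w
        have h3 := congrArg f (h1 (f.symm w))
        rwa [map_mul, map_mul, f.apply_symm_apply, f.apply_symm_apply] at h3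
      rw [hc, mem_bot] at h2
      exact hφ (h2.trans (map_one φ).symm)
    have hcm := comm_of_four (by omega : 1 ≤ n) hF (x := g x) (y := g y) (by rw [← map_mul, hx2, map_one])
      (by rw [← map_mul, hy2, map_one]) (by rw [← map_mul, ← map_pow, h4, map_one])
    apply hne
    apply hg
    rw [map_mul, map_mul]
    calc g x * g y * (g x * g y) = g x * g y * (g y * g x) := by rw [hcm]
      _ = g x * (g y * g y) * g x := by group
      _ = 1 := by rw [← map_mul g y y, hy2, map_one, mul_one, ← map_mul, hx2, map_one]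
  · obtain rfl : m = 5 := by omega
    have h1 : 2 * Nat.card K = 120 := by
      have : Nontrivial (Fin 5) := Fin.nontrivial_iff_two_le.2 (by omega)
      rw [Nat.card_congr f.toEquiv, two_mul_nat_card_alternatingGroup, Nat.card_perm, Nat.card_fin]
      rfl
    omega

/-- **`L₃(4)`** -/
theorem not_dvd_20160 {F : Type*} [Field F] [Finite F] {n : ℕ} (hn : 2 ≤ n) (hF : Nat.card F = (2 ^ n) ^ 2) :
    ¬ Nat.card (Cfsg.PSU 3 F (2 ^ n)) ∣ 20160 := by
  intro h
  have h1 := (card_dvd (by omega : 1 ≤ n) hF).trans h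
  have h2 : 2 ^ (n * 3) ∣ 20160 := (Dvd.intro _ rfl).trans h1
  have h3 : n ≤ 2 := by
    by_contra hcon
    have h4 : 2 ^ 9 ∣ 2 ^ (n * 3) := pow_dvd_pow 2 (by omega)
    exact absurd (h4.trans h2) (by decide)
  obtain rfl : n = 2 := by omega
  exact absurd h1 (by decide)

/-- **`He`** -/
theorem not_dvd_he {F : Type*} [Field F] [Finite F] {n : ℕ} (hn : 2 ≤ n) (hF : Nat.card F = (2 ^ n) ^ 2) :
    ¬ Nat.card (Cfsg.PSU 3 F (2 ^ n)) ∣ 4030387200 := by
  intro h
  have h1 := (card_dvd (by omega : 1 ≤ n) hF).trans h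
  have h2 : 2 ^ (n * 3) ∣ 4030387200 := (Dvd.intro _ rfl).trans h1
  have h3 : n ≤ 3 := by
    by_contra hcon
    have h4 : 2 ^ 12 ∣ 2 ^ (n * 3) := pow_dvd_pow 2 (by omega)
    exact absurd (h4.trans h2) (by decide)
  rcases (by omega : n = 2 ∨ n = 3) with rfl | rfl
  · exact absurd h1 (by decide)
  · exact absurd h1 (by decide)

end Cfsg.Agent.H207.RkU
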