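import Mathlib
import Cfsg.Agent.H284.AltComp
import Cfsg.Agent.OddHalf.Known
import Cfsg.Agent.GH.AltOut
import Cfsg.Agent.KFacts.He.Cent
import Cfsg.Agent.H337.Bend.Iface2
import Cfsg.Agent.H207.OddU.Main
import Cfsg.Agent.H207.RkU.Elim
import Cfsg.Agent.H207.RkU.Bal
/-!
# S3145, piece RkU (helper207)

No standard subgroup of type `U₃(2^n)`, `SU₃(2^n)` with `m₂(C(K)) ≥ 2` in a simple group; `St1311` : the statement of S1311.
-/

set_option autoImplicit false
set_option linter.unusedSectionVars false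

namespace Cfsg.Agent.H207.RkU

open Subgroup Cfsg

universe u

/-- the statement of S1311 (Unbalanced Group Theorem) -/
def St1311 : Prop :=
  ∀ {G : Type u} [Group G] [Finite G], IsSimpleGroup ↥(generalizedFittingSubgroup G) →
    ¬ IsMulCommutative ↥(generalizedFittingSubgroup G) → ∀ t : G, orderOf t = 2 → centralizerPPrimeCore 2 t ≠ ⊥ →
    (∃ p : ℕ, p.Prime ∧ p ≠ 2 ∧ IsLieTypeChar p ↥(generalizedFittingSubgroup G)) ∨
      (∃ n : ℕ, Odd n ∧ 7 ≤ n ∧ Nonempty (↥(generalizedFittingSubgroup G) ≃* ↥(alternatingGroup (Fin n)))) ∨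
      (∃ (F : Type) (_ : Field F) (_ : Fintype F), Fintype.card F = 4 ∧
        Nonempty (↥(generalizedFittingSubgroup G) ≃* Matrix.ProjectiveSpecialLinearGroup (Fin 3) F)) ∨
      Spor.IsoHe ↥(generalizedFittingSubgroup G)

theorem card_psl_three_four {F : Type} [Field F] [Fintype F] (hF : Fintype.card F = 4) :
    Nat.card (Matrix.ProjectiveSpecialLinearGroup (Fin 3) F) = 20160 := by
  have h := S0243.result (F := F) hF 3 (by norm_num)
  rw [Fin.prod_univ_three] at h
  norm_num at h
  omega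

/-- **S3145, piece RkU** -/
theorem rkU (h1311 : St1311.{u}) : Cfsg.Agent.H337.Bend.RkU.{u} := by
  intro G _ _ hs K hK hU hrk
  by_cases hbal : ∀ t : G, orderOf t = 2 → centralizerPPrimeCore 2 t = ⊥
  · exact false_of_bal hK hU hrk hbal
  push Not at hbal
  obtain ⟨t, ht, hcore⟩ := hbal
  have hU0 := hU
  obtain ⟨⟨F, _, _, n, hn, hF, ⟨e⟩⟩, h3⟩ := hU
  have hF' : Nat.card F = (2 ^ n) ^ 2 := by rw [Nat.card_eq_fintype_card, hF]
  have hdvd : Nat.card (PSU 3 F (2 ^ n)) ∣ Nat.card G := by
    rw [← Nat.card_congr e.toEquiv]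
    exact (card_quotient_dvd_card _).trans (card_subgroup_dvd_card K)
  have hna : ¬ IsMulCommutative G := by
    intro hcon
    have hct : center ↥K = ⊤ := by
      rw [eq_top_iff]
      intro y _
      rw [mem_center_iff]
      exact fun z => Subtype.ext (hcon.1.1 z y)
    have := hK.1.2
    obtain ⟨y, hy⟩ := exists_ne (1 : ↥K ⧸ center ↥K)
    obtain ⟨z, rfl⟩ := QuotientGroup.mk_surjective y
    exact hy ((QuotientGroup.eq_one_iff z).2 (hct ▸ mem_top z))
  have hFs : generalizedFittingSubgroup G = ⊤ := GH.AltOut.fstar_eq_top hna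
  let ε : ↥(generalizedFittingSubgroup G) ≃* G := (MulEquiv.subgroupCongr hFs).trans Subgroup.topEquiv
  have hs' : IsSimpleGroup ↥(generalizedFittingSubgroup G) := ε.isSimpleGroup
  have hna' : ¬ IsMulCommutative ↥(generalizedFittingSubgroup G) := by
    intro h
    apply hna
    refine ⟨⟨fun a b => ?_⟩⟩
    have h1 : ε.symm a * ε.symm b = ε.symm b * ε.symm a := h.1.1 _ _
    rw [← map_mul, ← map_mul] at h1
    exact ε.symm.injective h1
  rcases h1311 hs' hna' t ht hcore with ⟨p, hp, hp2, h⟩ | ⟨m, -, hm, ⟨f⟩⟩ | ⟨E, _, _, hE, ⟨f⟩⟩ | h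
  · exact Cfsg.Agent.H207.OddU.oddU G p hp hp2 (Cfsg.Agent.OddHalf.Known.isLieTypeChar_congr ε h) K hK hU0.1 hrk
  · -- alternating groups
    obtain ⟨a, -, ha, -, ha2, -, -, -⟩ := Cfsg.Agent.OddHalf.D4.EvenPair.exists_two_of_not_pRankLE hrk
    have haa : a * a = 1 := by
      have := pow_orderOf_eq_one a
      rwa [ha2, pow_two] at this
    have ha1 : a ≠ 1 := by
      rintro rfl
      rw [orderOf_one] at ha2
      exact absurd ha2 (by norm_num)
    have hmem : ∀ g : G, g ∈ fixedSubgroup (MulAut.conj a : G ≃* G) ↔ g * a = a * g := by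
      intro g
      change a * g * a⁻¹ = g ↔ _
      rw [mul_inv_eq_iff_eq_mul, eq_comm]
    have hKa : K ≤ fixedSubgroup (MulAut.conj a : G ≃* G) := by
      intro k hk
      rw [hmem]
      exact mem_centralizer_iff.1 ha k hk
    have hnor : (K.subgroupOf (fixedSubgroup (MulAut.conj a : G ≃* G))).Normal := by
      refine ⟨fun k hk g => ?_⟩
      rw [mem_subgroupOf] at hk ⊢
      have h1 : (g : G) ∈ normalizer (K : Set G) :=
        Cfsg.Agent.OddHalf.D4.EvenPair.cent_le (Cfsg.Agent.OddHalf.D4.EvenPair.tight_of_standard hK) ha ha2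
          ((hmem g).1 g.2)
      exact (mem_normalizer_iff.1 h1 k).1 hk
    have hcomp : IsComponent (K.subgroupOf (fixedSubgroup (MulAut.conj a : G ≃* G))) :=
      ⟨hnor.isSubnormal, Cfsg.Agent.H207.OddU.quasi_congr (subgroupOfEquivOfLe hKa).symm hK.1⟩
    have hx1 : MulAut.conj a ≠ 1 := by
      intro h1
      apply hna
      have hac : a ∈ center G := by
        rw [mem_center_iff]
        intro g
        have h2 : a * g * a⁻¹ = g := by
          have := congrArg (fun φ : MulAut G => φ g) h1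
          simpa using this
        rw [mul_inv_eq_iff_eq_mul] at h2
        exact h2.symm
      rcases (inferInstance : (center G).Normal).eq_bot_or_eq_top with h2 | h2
      · rw [h2, mem_bot] at hac
        exact absurd hac ha1
      · exact ⟨⟨fun x y => (mem_center_iff.1 (h2 ▸ mem_top y : y ∈ center G) x)⟩⟩
    obtain ⟨m', -, hm', -, -, ⟨f'⟩, -⟩ := H284.AltComp.table (by omega : 5 ≤ m) (ε.symm.trans f)
      (x := MulAut.conj a) (by rw [← map_mul, haa, map_one]) hx1 hcomp
    exact not_alt hn hF' e hm' ((subgroupOfEquivOfLe hKa).symm.trans f')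
  · apply not_dvd_20160 hn hF'
    rw [← card_psl_three_four hE, ← Nat.card_congr f.toEquiv, Nat.card_congr ε.toEquiv]
    exact hdvd
  · apply not_dvd_he hn hF'
    obtain ⟨f⟩ := h
    rw [← KFacts.He.Cent.card_He, ← Nat.card_congr f.toEquiv, Nat.card_congr ε.toEquiv]
    exact hdvd

end Cfsg.Agent.H207.RkU
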